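import Cfsg.Agent.H132.S5.Main
import Cfsg.Agent.H604.FD.Degs
import Cfsg.Agent.H653.CycFinal
import Cfsg.Agent.H653.CycHeight
import Cfsg.Agent.Characters.Central
import Cfsg.Agent.H235.ExtOut
import Cfsg.Agent.H862.T5.SpRow
import Cfsg.Agent.H423.PGOrth_m3
import Cfsg.Agent.S0776
import Cfsg.Agent.S2381
import Cfsg.Agent.S0245
import Cfsg.Agent.S0246
import Cfsg.Agent.S0244
import Cfsg.Agent.TwoFusion.SLTwoFacts
import Cfsg.Agent.LieClassical.SpFourTwo
import Cfsg.Agent.LieClassical.FieldTransfer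
import Cfsg.Agent.FastGrp
import Cfsg.Agent.Prune
set_option linter.all false

section
prune_inst 0x7f00000000000000000000000000000000000000000000000000000000000000000000000000000000000000000000000000000000000000000000000000000000000000000000000000000000000000003fffffffffffffffffffffffffffbeffbdffffffff

-- part: H132/S5/CycChar
section
set_option linter.all false
open scoped Cfsg.Agent.FastGrp

/-!
# S2274: cyclic Sylow `p`-subgroups

* `exists_sign_char` : `G` nonabelian simple with a non-trivial cyclic Sylow `p`-subgroup has an irreducible character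
  `χ ≠ 1` with `χ g = ε = ±1` for all `p`-singular `g`.
* `bpair_of_cyclic`, `spair_of_cyclic`.
-/

set_option autoImplicit false

open scoped ComplexConjugate

universe u

namespace Cfsg.Agent.H132.S5

open Cfsg Cfsg.Agent.H533.T5 Cfsg.Agent.H957.T5M Cfsg.Agent.H106.MB Cfsg.Agent.H106.MT

section char

open Subgroup Cfsg.Agent.Characters.Core Cfsg.Agent.H653.CycSign Cfsg.Agent.H653.CycPairs

variable {G : Type u} [Group G] [Finite G] {p : ℕ} [hp : Fact p.Prime]

/-- two members of the block with proportional columns agree, up to the factor, on `p`-singular elements -/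
theorem eq_of_cols [Fintype G] {M : Ideal AlgInt} [M.IsPrime] {B : Set (IrrCharacter G)} {a : BrauerPairIdx G} {z : G}
    (h : Hyp p M B a z) {χ χ' : B} {δ δ' : ℂ} {c : G → ℂ}
    (h1 : ∀ u ∈ a.1, u ≠ 1 → δ * H653.CycCols.cw p M a z u (χ.1 : G → ℂ) = c u)
    (h2 : ∀ u ∈ a.1, u ≠ 1 → δ' * H653.CycCols.cw p M a z u (χ'.1 : G → ℂ) = c u) {g : G}
    (hg : p ∣ orderOf g) : δ * (χ.1 : G → ℂ) g = δ' * (χ'.1 : G → ℂ) g := by
  classical
  have hfinB := finite_irr (G := G)
  have : Fintype B := Fintype.ofFinite B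
  have key := vanish_of_cw h (fun ψ : B => (if ψ = χ then δ else 0) - (if ψ = χ' then δ' else 0)) (by
    intro u hu hu1
    simp only [sub_mul, ite_mul, zero_mul, Finset.sum_sub_distrib, Finset.sum_ite_eq', Finset.mem_univ, if_true]
    rw [h1 u hu hu1, h2 u hu hu1, sub_self]) hg
  simp only [sub_mul, ite_mul, zero_mul, Finset.sum_sub_distrib, Finset.sum_ite_eq', Finset.mem_univ, if_true] at key
  exact sub_eq_zero.1 key

/-- **A sign character.** -/
theorem exists_sign_char (hG : commutator G = ⊤) (P : Sylow p G) (hcyc : IsCyclic (P : Subgroup G))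
    (hP : (P : Subgroup G) ≠ ⊥) :
    ∃ (χ : IrrCharacter G) (ε : ℤ), χ ≠ ⟨1, isIrr_one⟩ ∧ (ε = 1 ∨ ε = -1) ∧
      ∀ g : G, p ∣ orderOf g → (χ : G → ℂ) g = ε := by
  classical
  have := Fintype.ofFinite G
  obtain ⟨M, hM⟩ := Cfsg.Agent.Blocks.ExistsModular.exists_isPModular hp.out
  have hMp := Blocks.Local.isPrime_of_isPModular hM
  obtain ⟨n, hn⟩ := IsPGroup.iff_card.mp P.2
  have hn0 : n ≠ 0 := by
    rintro rfl
    rw [pow_zero] at hn
    exact hP (Subgroup.eq_bot_of_card_eq _ hn)
  have hcomm : ∀ x ∈ (P : Subgroup G), ∀ y ∈ (P : Subgroup G), x * y = y * x := by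
    intro x hx y hy
    have := (IsCyclic.commGroup (α := (P : Subgroup G))).mul_comm ⟨x, hx⟩ ⟨y, hy⟩
    exact congrArg Subtype.val this
  have hPC : (P : Subgroup G) ≤ centralizer ((P : Subgroup G) : Set G) := fun x hx =>
    mem_centralizer_iff.2 fun y hy => hcomm y hy x hx
  have hB : IsPBlock M (principalBlock M G) := Blocks.PrincipalSection.isPBlock_principalBlock
  have hBD : IsDefectGroup p M (principalBlock M G) (P : Subgroup G) := (S4652.result p M hM _).2 ⟨P, rfl⟩
  have hb : IsPBlock M (principalBlock M (centralizer ((P : Subgroup G) : Set G))) :=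
    Blocks.PrincipalSection.isPBlock_principalBlock
  have hdef : InducedBlockDefined M (centralizer ((P : Subgroup G) : Set G))
      (principalBlock M (centralizer ((P : Subgroup G) : Set G))) :=
    S0919.result p M hM (P : Subgroup G) _ P.2 hPC le_rfl (centralizer_le_normalizer _) _ hb
  have hind : IsInducedBlock M (centralizer ((P : Subgroup G) : Set G))
      (principalBlock M (centralizer ((P : Subgroup G) : Set G))) (principalBlock M G) :=
    (S0936.result p M hM _ _ hdef).2 rfl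
  obtain ⟨z, h⟩ := H653.CycFinal.exists_hyp hM hcyc (Nat.one_le_iff_ne_zero.mpr hn0) hn hBD hind
  obtain ⟨e, he⟩ : ∃ e, (centralizer ((P : Subgroup G) : Set G)).relIndex
      (H651.idxStab ⟨(P : Subgroup G), principalBlock M (centralizer ((P : Subgroup G) : Set G))⟩) = e := ⟨_, rfl⟩
  obtain ⟨hep, hm, he0⟩ := H653.CycFinal.dvd_and h hn he
  obtain ⟨m, hm'⟩ : ∃ m, m = (p ^ n - 1) / e := ⟨_, rfl⟩
  rw [← hm'] at hm
  obtain ⟨ψ₀, X, Y, δ, δ₀, hXY, hall, hX, hY, hδ, hδ₀, hrel, hXc, hYc⟩ := H653.CycRel.exists_signs h he hm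
  have h1B : (⟨1, isIrr_one⟩ : IrrCharacter G) ∈ principalBlock M G :=
    Blocks.PrincipalSection.one_mem_principalBlock
  let o : principalBlock M G := ⟨⟨1, isIrr_one⟩, h1B⟩
  have hsq : ∀ χ, (δ χ : ℂ) * (δ χ : ℂ) = 1 := by
    intro χ
    rcases hδ χ with h1 | h1 <;> rw [h1] <;> simp
  have hsq0 : (δ₀ : ℂ) * (δ₀ : ℂ) = 1 := by
    rcases hδ₀ with h1 | h1 <;> rw [h1] <;> simp
  have h11 : ¬ p ∣ orderOf (1 : G) := by
    rw [orderOf_one]
    exact hp.out.not_dvd_one
  have hsgn : ∀ a b : ℤ, (a = 1 ∨ a = -1) → (b = 1 ∨ b = -1) → (a * b = 1 ∨ a * b = -1) := by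
    rintro a b (rfl | rfl) (rfl | rfl) <;> simp
  -- degree one is trivial
  have hdeg1 : ∀ χ : IrrCharacter G, charDegree (χ : G → ℂ) = 1 → χ = ⟨1, isIrr_one⟩ := fun χ h1 =>
    H604.FD.Degs.eq_one_of_degree hG h1
  have hdeg : ∀ χ : IrrCharacter G, (χ : G → ℂ) 1 = (charDegree (χ : G → ℂ) : ℂ) := fun χ =>
    Blocks.Basic.irr_one_eq_charDegree χ.2
  have hXc' : ∀ χ ∈ X, ∀ u ∈ (P : Subgroup G), u ≠ 1 →
      (δ χ : ℂ) * H653.CycCols.cw p M ⟨(P : Subgroup G), principalBlock M (centralizer ((P : Subgroup G) : Set G))⟩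
        z u (χ.1 : G → ℂ) =
      - H653.CycCols.cw p M ⟨(P : Subgroup G), principalBlock M (centralizer ((P : Subgroup G) : Set G))⟩
        z u (H639.ei ψ₀.1) := by
    intro χ hχ u hu hu1
    rw [hXc χ hχ u hu hu1, ← mul_assoc, mul_neg, hsq, neg_one_mul]
  rcases hall o with hoX | hoY
  · -- `1 ∈ X`
    by_cases he1 : e = 1
    · exfalso
      have hXo : X = {o} := by
        obtain ⟨w, hw⟩ := Finset.card_eq_one.1 (hX.trans he1)
        rw [hw] at hoX ⊢
        rw [Finset.mem_singleton.1 hoX]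
      have hYne : Y.Nonempty := by
        rw [← Finset.card_pos, hY]
        rcases Nat.eq_zero_or_pos m with h1 | h1
        · exfalso
          rw [h1, zero_mul, zero_add, hn] at hm
          exact hn0 (by
            rcases Nat.pow_eq_one.1 hm with h2 | h2
            · exact absurd h2 hp.out.one_lt.ne'
            · exact h2)
        · exact h1
      obtain ⟨ψ, hψ⟩ := hYne
      have h1 := hrel ψ hψ 1 h11
      rw [hXo, Finset.sum_singleton, hdeg ψ.1] at h1
      have h2 : δ₀ * (charDegree (ψ.1 : G → ℂ) : ℤ) + δ o = 0 := by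
        have h3 : ((o.1 : IrrCharacter G) : G → ℂ) 1 = 1 := rfl
        rw [h3, mul_one] at h1
        exact_mod_cast h1
      have h3 : charDegree (ψ.1 : G → ℂ) = 1 := by
        rcases hδ₀ with h4 | h4 <;> rcases hδ o with h5 | h5 <;> rw [h4, h5] at h2 <;> (clear * - h2 h1B; omega)
      have h4 : ψ = o := Subtype.ext (hdeg1 _ h3)
      rw [h4] at hψ
      exact (Finset.disjoint_left.1 hXY hoX) hψ
    · obtain ⟨χ, hχ, hχo⟩ : ∃ χ ∈ X, χ ≠ o := by
        refine Finset.exists_mem_ne ?_ o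
        rw [hX]; omega
      refine ⟨χ.1, δ χ * δ o, fun h1 => hχo (Subtype.ext h1), hsgn _ _ (hδ χ) (hδ o), fun g hg => ?_⟩
      have h1 := eq_of_cols h (hXc' χ hχ) (hXc' o hoX) hg
      have h2 : ((o.1 : IrrCharacter G) : G → ℂ) g = 1 := rfl
      rw [h2, mul_one] at h1
      have h3 : (χ.1 : G → ℂ) g = (δ χ : ℂ) * ((δ χ : ℂ) * (χ.1 : G → ℂ) g) := by
        rw [← mul_assoc, hsq, one_mul]
      rw [h3, h1]
      push_cast
      rfl
  · -- `1 ∈ Y`
    by_cases hm1 : m = 1
    · have hYo : Y = {o} := by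
        obtain ⟨w, hw⟩ := Finset.card_eq_one.1 (hY.trans hm1)
        rw [hw] at hoY ⊢
        rw [Finset.mem_singleton.1 hoY]
      obtain ⟨χ, hχ⟩ : X.Nonempty := by
        rw [← Finset.card_pos, hX]; exact he0
      have hχo : χ ≠ o := fun h1 => (Finset.disjoint_left.1 hXY hχ) (h1 ▸ hoY)
      refine ⟨χ.1, δ χ * δ₀, fun h1 => hχo (Subtype.ext h1), hsgn _ _ (hδ χ) hδ₀, fun g hg => ?_⟩
      have h1 := eq_of_cols h (hXc' χ hχ) (χ' := o) (δ' := (δ₀ : ℂ)) (fun u hu hu1 => by
        have h2 := hYc u hu hu1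
        rw [hYo, Finset.sum_singleton] at h2
        exact h2) hg
      have h2 : ((o.1 : IrrCharacter G) : G → ℂ) g = 1 := rfl
      rw [h2, mul_one] at h1
      have h3 : (χ.1 : G → ℂ) g = (δ χ : ℂ) * ((δ χ : ℂ) * (χ.1 : G → ℂ) g) := by
        rw [← mul_assoc, hsq, one_mul]
      rw [h3, h1]
      push_cast
      rfl
    · exfalso
      have hm0 : m ≠ 0 := by
        rintro h1
        rw [h1] at hY
        rw [Finset.card_eq_zero.1 hY] at hoY
        exact absurd hoY (Finset.notMem_empty _)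
      obtain ⟨ψ, hψ, hψo⟩ : ∃ ψ ∈ Y, ψ ≠ o := by
        refine Finset.exists_mem_ne ?_ o
        rw [hY]; omega
      apply hψo
      have h1 := hrel ψ hψ 1 h11
      have h2 := hrel o hoY 1 h11
      have h3 : (δ₀ : ℂ) * (ψ.1 : G → ℂ) 1 = δ₀ * ((o.1 : IrrCharacter G) : G → ℂ) 1 :=
        add_right_cancel (h1.trans h2.symm)
      have h4 : ((o.1 : IrrCharacter G) : G → ℂ) 1 = 1 := rfl
      have h5 : (ψ.1 : G → ℂ) 1 = 1 := by
        have h6 : (ψ.1 : G → ℂ) 1 = (δ₀ : ℂ) * ((δ₀ : ℂ) * (ψ.1 : G → ℂ) 1) := by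
          rw [← mul_assoc, hsq0, one_mul]
        rw [h6, h3, h4, mul_one, hsq0]
      refine Subtype.ext (hdeg1 _ ?_)
      rw [hdeg] at h5
      exact_mod_cast h5

end char

section pair

variable {S : Type u} [Group S] [Finite S] {p : ℕ} [hp : Fact p.Prime]

theorem not_sylow_bot (P : Sylow p S) {x : S} (hx : orderOf x = p) : (P : Subgroup S) ≠ ⊥ := by
  intro h
  obtain ⟨g, hg⟩ := exists_conj_mem_sylow P hx
  rw [h, Subgroup.mem_bot] at hg
  have h1 : orderOf (g * x * g⁻¹) = p := by rw [orderOf_cj, hx]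
  rw [hg, orderOf_one] at h1
  exact hp.out.one_lt.ne h1

theorem dvd_orderOf_of_pow {x : S} (hx : x ≠ 1) {k : ℕ} (hk : x ^ p ^ k = 1) : p ∣ orderOf x := by
  obtain ⟨i, -, hi⟩ := (Nat.dvd_prime_pow hp.out).1 (orderOf_dvd_of_pow_eq_one hk)
  rw [hi]
  rcases Nat.eq_zero_or_pos i with h | h
  · rw [h, pow_zero, orderOf_eq_one_iff] at hi
    exact absurd hi hx
  · exact dvd_pow_self p h.ne'

/-- the degree of a character with value `-1` on the non-trivial powers of `x` -/
theorem dvd_add_one_of_values (χ : IrrCharacter S) {x : S} (hx : orderOf x = p)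
    (h : ∀ g ∈ Subgroup.zpowers x, g ≠ 1 → (χ : S → ℂ) g = ((-1 : ℤ) : ℂ)) :
    p ∣ charDegree (χ : S → ℂ) + 1 := by
  classical
  have := Fintype.ofFinite S
  have hdeg : (χ : S → ℂ) 1 = (charDegree (χ : S → ℂ) : ℂ) := H669.Basic.charDegree_eq χ.2
  set d := charDegree (χ : S → ℂ) with hd
  let H := Subgroup.zpowers x
  obtain ⟨n, hn⟩ : ∃ n : ℕ, ∑ w : H, (χ : S → ℂ) w = n * Nat.card H := by
    obtain ⟨n, hn⟩ := Characters.Core.classInner_isNat
      (Characters.Core.isCharacter_comp H.subtype (Characters.Core.isIrr_isCharacter χ.2))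
      Characters.Core.isCharacter_one
    refine ⟨n, ?_⟩
    rw [← hn, Characters.Core.classInner_def]
    have hne : (Nat.card H : ℂ) ≠ 0 := by exact_mod_cast Nat.card_pos.ne'
    rw [mul_comm, mul_inv_cancel_left₀ hne]
    refine Finset.sum_congr rfl fun g _ => ?_
    simp
  have hH : Nat.card H = p := by rw [Nat.card_zpowers, hx]
  have h1 : ∑ w : H, (χ : S → ℂ) w = (d : ℂ) - (p - 1 : ℂ) := by
    rw [← Finset.add_sum_erase _ _ (Finset.mem_univ (1 : H))]
    have h2 : ∑ w ∈ Finset.univ.erase (1 : H), (χ : S → ℂ) w = ∑ w ∈ Finset.univ.erase (1 : H), (-1 : ℂ) := by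
      refine Finset.sum_congr rfl fun w hw => ?_
      rw [h w w.2 (fun h3 => (Finset.mem_erase.1 hw).1 (Subtype.ext h3))]
      push_cast
      rfl
    rw [h2, Finset.sum_const, Finset.card_erase_of_mem (Finset.mem_univ _), Finset.card_univ,
      ← Nat.card_eq_fintype_card, hH, nsmul_eq_mul, Nat.cast_sub hp.out.one_lt.le]
    rw [Subgroup.coe_one, hdeg]
    push_cast
    ring
  rw [h1, hH] at hn
  have h2 : (d : ℤ) + 1 = ((n : ℤ) + 1) * p := by
    have h3 : (d : ℂ) + 1 = ((n : ℂ) + 1) * p := by linear_combination hn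
    exact_mod_cast h3
  have h3 : (p : ℤ) ∣ ((d + 1 : ℕ) : ℤ) := by
    refine ⟨(n : ℤ) + 1, ?_⟩
    push_cast
    rw [h2]; ring
  exact_mod_cast h3

/-- If the class of `x` has `-1` elements modulo `p` and the Sylow subgroup is cyclic, `x` is conjugate to its inverse. -/
theorem isConj_inv_of_index (P : Sylow p S) (hP : IsCyclic ↥(P : Subgroup S)) {x : S} (hx : orderOf x = p)
    (h : p ∣ (Subgroup.centralizer ({x} : Set S)).index + 1) : IsConj x x⁻¹ := by
  classical
  let Z : Subgroup S := Subgroup.zpowers x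
  have hZc : Nat.card Z = p := by rw [Nat.card_zpowers, hx]
  have hZ : IsPGroup p Z := IsPGroup.of_card (n := 1) (by rw [hZc, pow_one])
  let C := Subgroup.centralizer ({x} : Set S)
  have h1 := hZ.card_modEq_card_fixedPoints (S ⧸ C)
  rw [← Subgroup.index_eq_card] at h1
  -- conjugates of `x` commuting with `x`
  have hmem : ∀ g : S, Commute x (g * x * g⁻¹) → g * x * g⁻¹ ∈ Z := by
    intro g hg
    have hyp : IsPGroup p ↥(Subgroup.closure ({x, g * x * g⁻¹} : Set S)) := by
      have hcm : ∀ a ∈ Subgroup.closure ({x, g * x * g⁻¹} : Set S), ∀ b ∈ Subgroup.closure ({x, g * x * g⁻¹} : Set S),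
          a * b = b * a := by
        have h2 : ∀ a ∈ ({x, g * x * g⁻¹} : Set S), ∀ b ∈ ({x, g * x * g⁻¹} : Set S), a * b = b * a := by
          rintro a (rfl | rfl) b (rfl | rfl)
          · rfl
          · exact hg.eq
          · exact hg.eq.symm
          · rfl
        letI := Subgroup.closureCommGroupOfComm h2
        intro a ha b hb
        exact congrArg Subtype.val (mul_comm (⟨a, ha⟩ : ↥(Subgroup.closure ({x, g * x * g⁻¹} : Set S))) ⟨b, hb⟩)
      intro a
      refine ⟨1, ?_⟩
      rw [pow_one]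
      apply Subtype.ext
      rw [Subgroup.coe_pow, Subgroup.coe_one]
      have h3 : ∀ b ∈ Subgroup.closure ({x, g * x * g⁻¹} : Set S), b ^ p = 1 := by
        intro b hb
        induction hb using Subgroup.closure_induction with
        | mem b hb =>
          rcases hb with rfl | hb
          · rw [← hx, pow_orderOf_eq_one]
          · rw [Set.mem_singleton_iff.1 hb, conj_pow, ← hx, pow_orderOf_eq_one]
            group
        | one => simp
        | mul a b ha hb h1 h2 =>
          have h4 : Commute a b := hcm a ha b hb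
          rw [h4.mul_pow, h1, h2, mul_one]
        | inv a _ ha => rw [inv_pow, ha, inv_one]
      exact h3 _ a.2
    obtain ⟨Q, hQ⟩ := hyp.exists_le_sylow
    obtain ⟨t, ht⟩ := MulAction.exists_smul_eq S Q P
    have hQP : ∀ w ∈ Q, t * w * t⁻¹ ∈ (P : Subgroup S) := by
      intro w hw
      have : MulAut.conj t w ∈ (t • Q : Sylow p S) :=
        Subgroup.smul_mem_pointwise_smul w (MulAut.conj t) (Q : Subgroup S) hw
      rw [ht] at this
      exact this
    have ha := hQP _ (hQ (Subgroup.subset_closure (by simp : x ∈ ({x, g * x * g⁻¹} : Set S))))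
    have hb := hQP _ (hQ (Subgroup.subset_closure (by simp : g * x * g⁻¹ ∈ ({x, g * x * g⁻¹} : Set S))))
    have h5 := mem_zpowers_of_cyclic hp.out (C := ↥(P : Subgroup S)) (u := ⟨_, hb⟩) (v := ⟨_, ha⟩)
      (by rw [Subgroup.orderOf_mk, orderOf_cj, orderOf_cj, hx]) (by rw [Subgroup.orderOf_mk, orderOf_cj, hx])
    obtain ⟨i, hi⟩ := Subgroup.mem_zpowers_iff.1 h5
    have h6 : (t * x * t⁻¹) ^ i = t * (g * x * g⁻¹) * t⁻¹ := by
      have := congrArg Subtype.val hi
      simpa only [_root_.conj_zpow, _root_.mul_left_inj, _root_.mul_right_inj, _root_.SubgroupClass.coe_zpow] using this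
    rw [conj_zpow] at h6
    exact ⟨i, mul_left_cancel (mul_right_cancel h6)⟩
  -- the fixed points
  let f : S ⧸ C → S := fun ω => ω.out * x * ω.out⁻¹
  have hinj : Function.Injective f := by
    intro ω ω' hf
    have h2 : ω.out * x * ω.out⁻¹ = ω'.out * x * ω'.out⁻¹ := hf
    have h3 : ω.out⁻¹ * ω'.out ∈ C := by
      rw [Subgroup.mem_centralizer_singleton_iff]
      calc ω.out⁻¹ * ω'.out * x = ω.out⁻¹ * (ω'.out * x * ω'.out⁻¹) * ω'.out := by group
        _ = ω.out⁻¹ * (ω.out * x * ω.out⁻¹) * ω'.out := by rw [h2]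
        _ = x * (ω.out⁻¹ * ω'.out) := by group
    rw [← QuotientGroup.out_eq' ω, ← QuotientGroup.out_eq' ω']
    exact QuotientGroup.eq.2 h3
  have hZne : ∀ g : S, g * x * g⁻¹ ≠ 1 := by
    intro g hg
    have h2 : orderOf (g * x * g⁻¹) = p := by rw [orderOf_cj, hx]
    rw [hg, orderOf_one] at h2
    exact hp.out.one_lt.ne h2
  have hfix : ∀ ω ∈ MulAction.fixedPoints Z (S ⧸ C), f ω ∈ Z := by
    intro ω hω
    apply hmem
    have h2 : (⟨x, Subgroup.mem_zpowers x⟩ : Z) • ω = ω := hω _
    have h3 : ((x * ω.out : S) : S ⧸ C) = ((ω.out : S) : S ⧸ C) := by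
      rw [QuotientGroup.out_eq' ω]
      conv_rhs => rw [← h2]
      conv_rhs => rw [← QuotientGroup.out_eq' ω]
      rfl
    rw [QuotientGroup.eq] at h3
    have h4 := Subgroup.mem_centralizer_singleton_iff.1 h3
    have h5 : Commute ((x * ω.out)⁻¹ * ω.out) x := h4
    have h6 := h5.conj ω.out
    have h7 : ω.out * ((x * ω.out)⁻¹ * ω.out) * ω.out⁻¹ = x⁻¹ := by group
    rw [h7] at h6
    exact Commute.inv_left_iff.1 h6
  have := Fintype.ofFinite S
  have := Fintype.ofFinite (S ⧸ C)
  let A : Finset S := (Finset.univ.filter fun w : S => w ∈ Z).erase 1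
  let B : Finset S := (Finset.univ.filter fun ω : S ⧸ C => ω ∈ MulAction.fixedPoints Z (S ⧸ C)).image f
  have hBA : B ⊆ A := by
    intro w hw
    obtain ⟨ω, hω, rfl⟩ := Finset.mem_image.1 hw
    rw [Finset.mem_filter] at hω
    exact Finset.mem_erase.2 ⟨hZne _, Finset.mem_filter.2 ⟨Finset.mem_univ _, hfix ω hω.2⟩⟩
  have hAc : A.card = p - 1 := by
    have h2 : (Finset.univ.filter fun w : S => w ∈ Z).card = p := by
      rw [← Fintype.card_subtype, ← Nat.card_eq_fintype_card, ← hZc]
    rw [Finset.card_erase_of_mem (Finset.mem_filter.2 ⟨Finset.mem_univ _, one_mem _⟩), h2]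
  have hBc : B.card = Nat.card (MulAction.fixedPoints Z (S ⧸ C)) := by
    rw [Finset.card_image_of_injective _ hinj, ← Fintype.card_subtype, ← Nat.card_eq_fintype_card]
  have hdB : p ∣ B.card + 1 := by
    rw [hBc]
    exact (Nat.ModEq.dvd_iff (h1.add_right 1) dvd_rfl).1 h
  have hle := Finset.card_le_card hBA
  have hBA' : B = A := by
    refine Finset.eq_of_subset_of_card_le hBA ?_
    have h2 := Nat.le_of_dvd (Nat.succ_pos _) hdB
    omega
  have hxi : x⁻¹ ∈ A := by
    refine Finset.mem_erase.2 ⟨?_, Finset.mem_filter.2 ⟨Finset.mem_univ _, inv_mem (Subgroup.mem_zpowers x)⟩⟩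
    intro h2
    rw [inv_eq_one] at h2
    rw [h2, orderOf_one] at hx
    exact hp.out.one_lt.ne hx
  rw [← hBA'] at hxi
  obtain ⟨ω, -, hω⟩ := Finset.mem_image.1 hxi
  exact isConj_iff.2 ⟨ω.out, hω⟩

/-- **Part (b) for cyclic Sylow subgroups.** -/
theorem bpair_of_cyclic (hAA : AAHyp.{u} p) [IsSimpleGroup S]
    (hna : ¬ IsMulCommutative S) (P : Sylow p S) (hP : IsCyclic ↥(P : Subgroup S)) {x y : S}
    (hx : orderOf x = p) (hy : orderOf y = p) : BPair p (⊤ : Subgroup S) x y := by
  classical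
  have := Fintype.ofFinite S
  by_contra hcon
  have hcon' : ∀ g : S, ∃ k : ℕ, (x * (g * y * g⁻¹)) ^ p ^ k = 1 := by
    intro g
    by_contra h
    push Not at h
    exact hcon ⟨g, Subgroup.mem_top _, h⟩
  obtain ⟨χ, ε, hχ1, hε, hval⟩ := exists_sign_char (H235.ExtOut.commutator_eq_top hna) P hP (not_sylow_bot P hx)
  have hxs : p ∣ orderOf x := by rw [hx]
  have hys : p ∣ orderOf y := by rw [hy]
  have hd1 : charDegree (χ : S → ℂ) ≠ 1 := H235.ExtOut.degree_ne_one hna χ (fun h => hχ1 (Subtype.ext h))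
  have hd0 := H669.Basic.charDegree_pos χ.2
  have hdeg : (χ : S → ℂ) 1 = (charDegree (χ : S → ℂ) : ℂ) := H669.Basic.charDegree_eq χ.2
  set d := charDegree (χ : S → ℂ) with hd
  have hε2 : (ε : ℂ) * ε = 1 := by
    rcases hε with h | h <;> rw [h] <;> norm_num
  have hd' : (d : ℂ) ≠ 0 := by exact_mod_cast hd0.ne'
  -- the average
  have havg : ∑ g : S, (χ : S → ℂ) (x * (g * y * g⁻¹)) = (Nat.card S : ℂ) / d := by
    have h1 := Characters.Central.sum_char_conj_mul χ.2 y x
    rw [hval x hxs, hval y hys, hdeg, mul_assoc, hε2, mul_one] at h1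
    rw [← h1]
    refine Finset.sum_congr rfl fun g _ => ?_
    have h2 := Characters.Core.isIrr_isClassFunction χ.2 (x * (g * y * g⁻¹)) x⁻¹
    rw [← h2]
    group
  set c := (Finset.univ.filter fun g : S => x * (g * y * g⁻¹) = 1).card with hc
  have hsum : ∑ g : S, (χ : S → ℂ) (x * (g * y * g⁻¹)) = (c : ℂ) * d + ((Nat.card S : ℂ) - c) * ε := by
    have h1 : ∀ g : S, (χ : S → ℂ) (x * (g * y * g⁻¹)) = if x * (g * y * g⁻¹) = 1 then (d : ℂ) else ε := by
      intro g
      split_ifs with h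
      · rw [h, hdeg]
      · obtain ⟨k, hk⟩ := hcon' g
        exact hval _ (dvd_orderOf_of_pow h hk)
    rw [Finset.sum_congr rfl fun g _ => h1 g, Finset.sum_ite, Finset.sum_const, Finset.sum_const, nsmul_eq_mul,
      nsmul_eq_mul, ← hc]
    congr 2
    have h2 := Finset.card_filter_add_card_filter_not (s := (Finset.univ : Finset S))
      (fun g : S => x * (g * y * g⁻¹) = 1)
    rw [Finset.card_univ, ← Nat.card_eq_fintype_card, ← hc] at h2
    rw [← h2]
    push_cast
    ring
  have key : ((c : ℤ) * d + ((Nat.card S : ℤ) - c) * ε) * d = Nat.card S := by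
    have h1 : ((c : ℂ) * d + ((Nat.card S : ℂ) - c) * ε) * d = Nat.card S := by
      rw [← hsum, havg]
      field_simp
    exact_mod_cast h1
  have hcn : c ≤ Nat.card S := by
    rw [hc, Nat.card_eq_fintype_card, ← Finset.card_univ]
    exact Finset.card_filter_le _ _
  have hn : 0 < Nat.card S := Nat.card_pos
  rcases Nat.eq_zero_or_pos c with h0 | h0
  · rw [h0] at key
    have hd2 : (2 : ℤ) ≤ d := by
      have : 2 ≤ d := by omega
      exact_mod_cast this
    have hn' : (0 : ℤ) < Nat.card S := by exact_mod_cast hn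
    rcases hε with rfl | rfl
    · push_cast at key; nlinarith only [hn, hd2, key]
    · push_cast at key; nlinarith only [hn, key]
  · -- some product is trivial
    have hd2 : (2 : ℤ) ≤ d := by
      have : 2 ≤ d := by omega
      exact_mod_cast this
    have hn' : (0 : ℤ) < Nat.card S := by exact_mod_cast hn
    have hc' : (0 : ℤ) < c := by exact_mod_cast h0
    have hcn' : (c : ℤ) ≤ Nat.card S := by exact_mod_cast hcn
    rcases hε with rfl | rfl
    · nlinarith only [key, mul_pos hc' (show (0 : ℤ) < (d : ℤ) - 1 by linarith), mul_nonneg (sub_nonneg.2 hcn') (show (0 : ℤ) ≤ (d : ℤ) - 1 by linarith)]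
    · -- `|S| = c d`
      have h1 : (Nat.card S : ℤ) * (1 + d) = c * d * (1 + d) := by linarith only [key]
      have h2 : (Nat.card S : ℤ) = c * d := mul_right_cancel₀ (by positivity) h1
      have h2' : Nat.card S = c * d := by exact_mod_cast h2
      obtain ⟨g₀, hg₀⟩ := Finset.card_pos.1 h0
      have hg₀ := (Finset.mem_filter.1 hg₀).2
      have hxy : IsConj y x⁻¹ := isConj_iff.2 ⟨g₀, (eq_inv_of_mul_eq_one_right hg₀)⟩
      -- `c` is the order of the centralizer
      have hcC : c = Nat.card (Subgroup.centralizer ({x} : Set S)) := by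
        have hg1 : ∀ g : S, x * (g * y * g⁻¹) = 1 ↔ g₀⁻¹ * g ∈ Subgroup.centralizer ({y} : Set S) := by
          intro g
          rw [Subgroup.mem_centralizer_singleton_iff]
          constructor
          · intro hg
            have h2 : g * y * g⁻¹ = g₀ * y * g₀⁻¹ := mul_left_cancel (hg.trans hg₀.symm)
            calc g₀⁻¹ * g * y = g₀⁻¹ * (g * y * g⁻¹) * g := by group
              _ = g₀⁻¹ * (g₀ * y * g₀⁻¹) * g := by rw [h2]
              _ = y * (g₀⁻¹ * g) := by group
          · intro hg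
            rw [← hg₀]
            have h2 : g * y * g⁻¹ = g₀ * y * g₀⁻¹ := by
              calc g * y * g⁻¹ = g₀ * (g₀⁻¹ * g * y) * g⁻¹ := by group
                _ = g₀ * (y * (g₀⁻¹ * g)) * g⁻¹ := by rw [hg]
                _ = g₀ * y * g₀⁻¹ := by group
            rw [h2]
        have h3 : c = Nat.card (Subgroup.centralizer ({y} : Set S)) := by
          rw [hc, Nat.card_eq_fintype_card, Fintype.card_subtype]
          refine Finset.card_bij (fun g _ => g₀⁻¹ * g) ?_ ?_ ?_
          · intro g hg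
            rw [Finset.mem_filter]
            exact ⟨Finset.mem_univ _, (hg1 g).1 (Finset.mem_filter.1 hg).2⟩
          · intro g _ g' _ h
            exact mul_left_cancel h
          · intro w hw
            refine ⟨g₀ * w, ?_, by group⟩
            rw [Finset.mem_filter]
            refine ⟨Finset.mem_univ _, (hg1 _).2 ?_⟩
            rw [inv_mul_cancel_left]
            exact (Finset.mem_filter.1 hw).2
        rw [h3]
        have h4 : (Subgroup.centralizer ({y} : Set S)).map (MulAut.conj g₀).toMonoidHom =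
            Subgroup.centralizer ({x} : Set S) := by
          have h5 : g₀ * y * g₀⁻¹ = x⁻¹ := eq_inv_of_mul_eq_one_right hg₀
          ext w
          rw [Subgroup.mem_centralizer_singleton_iff]
          constructor
          · rintro ⟨v, hv, rfl⟩
            have hv' := Subgroup.mem_centralizer_singleton_iff.1 hv
            have h6 : Commute (g₀ * v * g₀⁻¹) (g₀ * y * g₀⁻¹) := by
              have h7 : Commute v y := hv'
              exact h7.conj g₀
            rw [h5] at h6
            exact (Commute.inv_right_iff.1 h6).eq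
          · intro hw
            refine ⟨g₀⁻¹ * w * g₀, ?_, by simp [mul_assoc]⟩
            change _ ∈ Subgroup.centralizer ({y} : Set S)
            rw [Subgroup.mem_centralizer_singleton_iff]
            have h6 : y = g₀⁻¹ * x⁻¹ * g₀ := by rw [← h5]; group
            have h7 : Commute w x⁻¹ := Commute.inv_right hw
            have h8 : Commute (g₀⁻¹ * w * g₀⁻¹⁻¹) (g₀⁻¹ * x⁻¹ * g₀⁻¹⁻¹) := h7.conj g₀⁻¹
            rw [inv_inv] at h8
            rw [h6]
            exact h8.eq
        rw [← h4]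
        exact (Nat.card_congr ((Subgroup.centralizer ({y} : Set S)).equivMapOfInjective _
          (MulAut.conj g₀).injective).toEquiv)
      have hidx : (Subgroup.centralizer ({x} : Set S)).index = d := by
        have h3 := (Subgroup.centralizer ({x} : Set S)).card_mul_index
        rw [← hcC, h2'] at h3
        exact Nat.eq_of_mul_eq_mul_left h0 h3
      -- `d ≡ -1`
      have hdp : p ∣ d + 1 := dvd_add_one_of_values χ hx (fun g hg hg1 => hval g (by
        obtain ⟨i, rfl⟩ := Subgroup.mem_zpowers_iff.1 hg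
        exact dvd_orderOf_of_pow (k := 1) hg1 (by
          rw [pow_one, ← zpow_natCast, ← zpow_mul, mul_comm, zpow_mul, zpow_natCast, ← hx, pow_orderOf_eq_one,
            one_zpow])))
      have hinv := isConj_inv_of_index P hP hx (by rw [hidx]; exact hdp)
      exact hcon (bpair_of_isConj hAA hp.out hna hx (hinv.trans hxy.symm))

/-- **Cyclic Sylow subgroups.** -/
theorem spair_of_cyclic (hAA : AAHyp.{u} p) (hRS : RSHyp.{u} p) [IsSimpleGroup S]
    (hna : ¬ IsMulCommutative S) (P : Sylow p S) (hP : IsCyclic ↥(P : Subgroup S)) {x y : S}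
    (hx : orderOf x = p) (hy : orderOf y = p) : SPair p (⊤ : Subgroup S) x y :=
  SPair.mk' hp.out (apair_of_cyclic hRS hna P hP hx hy) (bpair_of_cyclic hAA hna P hP hx hy)

/-- `p² ∤ |S|` -/
theorem spair_of_not_sq_dvd (hAA : AAHyp.{u} p) (hRS : RSHyp.{u} p) [IsSimpleGroup S]
    (hna : ¬ IsMulCommutative S) (h : ¬ p ^ 2 ∣ Nat.card S) {x y : S}
    (hx : orderOf x = p) (hy : orderOf y = p) : SPair p (⊤ : Subgroup S) x y := by
  obtain ⟨P⟩ : Nonempty (Sylow p S) := inferInstance
  refine spair_of_cyclic hAA hRS hna P ?_ hx hy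
  obtain ⟨n, hn⟩ := IsPGroup.iff_card.mp P.2
  have h1 : n ≤ 1 := by
    by_contra hcon
    apply h
    refine (pow_dvd_pow p (show 2 ≤ n by omega)).trans ?_
    rw [← hn]
    exact Subgroup.card_subgroup_dvd_card _
  interval_cases n
  · rw [pow_zero] at hn
    have : Subsingleton ↥(P : Subgroup S) := (Nat.card_eq_one_iff_unique.mp hn).1
    exact isCyclic_of_subsingleton
  · exact isCyclic_of_prime_card (p := p) (by rw [hn, pow_one])

end pair

end Cfsg.Agent.H132.S5
end

-- part: H157/S5/PspIn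
section
set_option linter.all false
open scoped Cfsg.Agent.FastGrp

-- part: H157/S5/Blk
section
/-!
# Blocks of elements of order `p` in the symplectic groups (cross characteristic)
-/

set_option autoImplicit false
set_option linter.unusedSectionVars false

namespace Cfsg.Agent.H157.S5.Blk

open Cfsg Cfsg.Agent.ClassicalGeometry.SympBasic Cfsg.Agent.ClassicalGeometry.SympAutSemi
open Cfsg.Agent.ClassicalGeometry.SympGamma Cfsg.Agent.H951 Cfsg.Agent.H862.T5.SmallDim
open Cfsg.Agent.H862.T5.SpCore Cfsg.Agent.H862.T5.SpRow Cfsg.Agent.H533.T5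
open Cfsg.Agent.H423.PGBlk
open Module Matrix

section e0

variable (k l : ℕ) (F : Type) [Field F] [Fintype F]

/-- the standard decomposition -/
def e0 : ((Fin k ⊕ Fin k → F) × (Fin l ⊕ Fin l → F)) ≃ₗ[F] (Fin (k + l) ⊕ Fin (k + l) → F) :=
  (LinearEquiv.sumArrowLequivProdArrow (Fin k ⊕ Fin k) (Fin l ⊕ Fin l) F F).symm.trans
    (LinearEquiv.funCongrLeft F F (spE k l).symm)

variable {k l F}

theorem e0_apply (x : (Fin k ⊕ Fin k → F) × (Fin l ⊕ Fin l → F)) (i : (Fin k ⊕ Fin k) ⊕ (Fin l ⊕ Fin l)) :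
    e0 k l F x (spE k l i) = Sum.elim x.1 x.2 i := by
  simp [e0, LinearEquiv.funCongrLeft, LinearMap.funLeft, LinearEquiv.sumArrowLequivProdArrow]
  rcases i with i | i <;> rfl

theorem spE_rl (i : Fin l) : spE k l (Sum.inr (Sum.inl i)) = Sum.inl (Fin.natAdd k i) := rfl
theorem spE_rr (i : Fin l) : spE k l (Sum.inr (Sum.inr i)) = Sum.inr (Fin.natAdd k i) := rfl

theorem he0 (x y : (Fin k ⊕ Fin k → F) × (Fin l ⊕ Fin l → F)) :
    sympForm (k + l) F (e0 k l F x) (e0 k l F y) = sympForm k F x.1 y.1 + sympForm l F x.2 y.2 := by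
  have h1 : ∀ i, (Matrix.J (Fin (k + l)) F *ᵥ e0 k l F y) (spE k l i) =
      Sum.elim (Matrix.J (Fin k) F *ᵥ y.1) (Matrix.J (Fin l) F *ᵥ y.2) i := by
    intro i
    rw [← blkM_J, blkM_mulVec]
    rcases i with i | i
    · simp only [Sum.elim_inl, e0_apply]
    · simp only [Sum.elim_inr, Sum.elim_inl, e0_apply]
  unfold sympForm
  rw [dotProduct, ← (spE k l).sum_comp, Fintype.sum_sum_type]
  simp only [h1, e0_apply, Sum.elim_inl, Sum.elim_inr]
  rfl

/-- the two block homomorphisms agree -/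
theorem blockHom_e0 : Cfsg.Agent.S0776.blockHom (e0 k l F) he0 = blkSp k l := by
  ext1 A
  apply Subtype.ext
  rw [← Matrix.mulVec_injective.eq_iff]
  funext v
  obtain ⟨⟨x, y⟩, rfl⟩ := (e0 k l F).surjective v
  rw [Cfsg.Agent.S0776.blockHom_mulVec]
  funext i
  obtain ⟨i, rfl⟩ := (spE k l).surjective i
  rw [e0_apply]
  change _ = (blkM (spE k l) (A.1.1, A.2.1) *ᵥ e0 k l F (x, y)) (spE k l i)
  rw [blkM_mulVec]
  rcases i with i | i
  · simp only [Sum.elim_inl, e0_apply]
  · simp only [Sum.elim_inr, Sum.elim_inl, e0_apply]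

/-- the standard subspace -/
theorem mem_W0_iff (v : VV (k + l) F) : v ∈ W0 (k + l) k F ↔ ((e0 k l F).symm v).2 = 0 := by
  obtain ⟨⟨x, y⟩, rfl⟩ := (e0 k l F).surjective v
  rw [LinearEquiv.symm_apply_apply, mem_W0]
  have h3 := fun i => e0_apply (x, y) (Sum.inr (Sum.inl i))
  have h4 := fun i => e0_apply (x, y) (Sum.inr (Sum.inr i))
  simp only [spE_rl, spE_rr, Sum.elim_inr] at h3 h4
  constructor
  · rintro ⟨h1, h2⟩
    funext i
    rcases i with i | i
    · exact (h3 i).symm.trans (h1 _ (by simp))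
    · exact (h4 i).symm.trans (h2 _ (by simp))
  · rintro (rfl : y = 0)
    refine ⟨fun i hi => ?_, fun i hi => ?_⟩
    · obtain ⟨j, rfl⟩ : ∃ j : Fin l, i = Fin.natAdd k j :=
        ⟨⟨(i : ℕ) - k, by omega⟩, Fin.ext (by simp only [_root_.Fin.natAdd_mk]; omega)⟩
      rw [h3]
      rfl
    · obtain ⟨j, rfl⟩ : ∃ j : Fin l, i = Fin.natAdd k j :=
        ⟨⟨(i : ℕ) - k, by omega⟩, Fin.ext (by simp only [_root_.Fin.natAdd_mk]; omega)⟩
      rw [h4]
      rfl

/-- an element which preserves the standard subspace is a block matrix -/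
theorem exists_blk_of_mem {A : symplecticGroup (Fin (k + l)) F}
    (hA : ∀ v ∈ W0 (k + l) k F, rho (k + l) F A v ∈ W0 (k + l) k F) :
    ∃ x : symplecticGroup (Fin k) F × symplecticGroup (Fin l) F, A = blkSp k l x := by
  have h1 : A ∈ (Cfsg.Agent.S0776.blockHom (e0 k l F) he0).range := by
    rw [Cfsg.Agent.S0776.mem_range_blockHom]
    intro v
    rw [← mem_W0_iff, ← mem_W0_iff]
    constructor
    · intro h
      exact hA v h
    · intro h
      have h2 := inv_mem_of (W := W0 (k + l) k F) (g := rho (k + l) F A) hA _ h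
      have h3 : (rho (k + l) F A)⁻¹ ((A : Matrix (Fin (k + l) ⊕ Fin (k + l)) (Fin (k + l) ⊕ Fin (k + l)) F) *ᵥ v) = v :=
        (rho (k + l) F A).symm_apply_apply v
      rwa [h3] at h2
  obtain ⟨x, hx⟩ := h1
  exact ⟨x, by rw [← blockHom_e0, hx]⟩

/-- vectors of the standard subspace -/
theorem blkSp_mulVec_fst (x : symplecticGroup (Fin k) F × symplecticGroup (Fin l) F) (a : Fin k ⊕ Fin k → F) :
    rho (k + l) F (blkSp k l x) (e0 k l F (a, 0)) = e0 k l F (rho k F x.1 a, 0) := by
  rw [← blockHom_e0]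
  change ((Cfsg.Agent.S0776.blockHom (e0 k l F) he0 x : symplecticGroup (Fin (k + l)) F) :
    Matrix (Fin (k + l) ⊕ Fin (k + l)) (Fin (k + l) ⊕ Fin (k + l)) F) *ᵥ e0 k l F (a, 0) = _
  rw [Cfsg.Agent.S0776.blockHom_mulVec, Matrix.mulVec_zero]
  rfl

theorem blkSp_injective : Function.Injective (blkSp (F := F) k l) := by
  rw [← blockHom_e0]
  exact Cfsg.Agent.S0776.blockHom_injective _ _

end e0

/-! ### the blocks -/

variable {F : Type} [Field F] [Fintype F] {m : ℕ}

/-- half of the dimension of the blocks -/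
noncomputable def kk (q p : ℕ) : ℕ :=
  if Even (orderOf (q : ZMod p)) then orderOf (q : ZMod p) / 2 else orderOf (q : ZMod p)

theorem two_mul_kk (q p : ℕ) : 2 * kk q p =
    if Even (orderOf (q : ZMod p)) then orderOf (q : ZMod p) else 2 * orderOf (q : ZMod p) := by
  unfold kk
  split_ifs with h
  · obtain ⟨j, hj⟩ := h
    omega
  · rfl

theorem exists_Wc {p : ℕ} [hp : Fact p.Prime] (h5 : 5 ≤ p) (hpF : (p : F) ≠ 0)
    {A : Matrix.symplecticGroup (Fin m) F} (hA : orderOf A = p) :
    ∃ W : Submodule F (VV m F), Nd (sympForm m F) W ∧ finrank F W = 2 * kk (Fintype.card F) p ∧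
      (∀ w ∈ W, rho m F A w ∈ W) ∧ ∃ w ∈ W, rho m F A w ≠ w := by
  set x : Module.End F (VV m F) := Matrix.toLin' (A : Matrix (Fin m ⊕ Fin m) (Fin m ⊕ Fin m) F) with hxd
  have hxA : ∀ v, x v = rho m F A v := fun v => Matrix.toLin'_apply _ _
  have hx : Isom (sympForm m F) x := isom_Sp A
  have hxr : x ^ p = 1 := by
    rw [hxd, pow_toLin'', ← SubmonoidClass.coe_pow, ← hA, pow_orderOf_eq_one, OneMemClass.coe_one, Matrix.toLin'_one]
    rfl
  have hB := frm_symp (F := F) m
  have hK := kind_symp (F := F) m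
  have hV := nd_symp (F := F) m
  obtain ⟨r, hr⟩ := CharP.exists F
  obtain ⟨n, hrp, hn⟩ := FiniteField.card F r
  have : Fact r.Prime := ⟨hrp⟩
  obtain ⟨i, hi⟩ : ∃ i, i = orderOf ((Fintype.card F : ℕ) : ZMod p) := ⟨_, rfl⟩
  obtain ⟨c, hc⟩ : ∃ c, c = (if Even i then i else 2 * i) := ⟨_, rfl⟩
  have hdc : 2 * kk (Fintype.card F) p = c := by
    rw [hc, hi, two_mul_kk]
  have hi0 : 0 < i := by
    rw [hi]
    exact ord_pos hpF
  have hc2 : 2 ≤ c := by
    rw [hc]
    split_ifs with he
    · obtain ⟨j, hj⟩ := he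
      omega
    · omega
  have hbn : BlockNum (RingHom.id F) r p (orderOf (Fintype.card F : ZMod p)) c :=
    blockNum_symp (r := p) (by omega) (p := r) rfl hi hi0 hc
  have hdiv : ∀ W' : Submodule F (VV m F), _root_.Cfsg.Agent.H951.Inv x W' → Nd (sympForm m F) W' → W' ≤ cm x → c ∣ finrank F W' :=
    fun W' h1 h2 h3 => dvd_finrank_symp hpF rfl hB hK hi hc hxr W' h1 h2 h3
  have hcm : Nd (sympForm m F) (cm x) := hx.nd_cm hB hpF hxr hV
  obtain ⟨M, hM⟩ := hdiv (cm x) inv_cm hcm le_rfl
  have hxne : x ≠ 1 := by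
    intro h
    have h1 : A = 1 := by
      apply rho_injective
      rw [map_one]
      ext1 v
      rw [← hxA, h]
      rfl
    rw [h1, orderOf_one] at hA
    omega
  have hM0 : M ≠ 0 := by
    rintro rfl
    rw [mul_zero, Submodule.finrank_eq_zero] at hM
    apply hxne
    refine LinearMap.ext fun v => ?_
    have h1 : x v - v ∈ cm x := mem_cm.2 ⟨v, rfl⟩
    rw [hM, Submodule.mem_bot, sub_eq_zero] at h1
    exact h1
  have hne : ∀ W : Submodule F (VV m F), W ≤ cm x → 0 < finrank F W → ∃ w ∈ W, rho m F A w ≠ w := by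
    intro W hW hpos
    have h0 : W ≠ ⊥ := by
      rintro rfl
      rw [finrank_bot] at hpos
      omega
    obtain ⟨w, hw, hw0⟩ := (Submodule.ne_bot_iff _).1 h0
    refine ⟨w, hw, fun h => hw0 ?_⟩
    have h6 := (isCompl_fx_cm hpF hxr).inf_eq_bot
    rw [← Submodule.mem_bot F, ← h6]
    exact ⟨mem_fx.2 (by rw [hxA]; exact h), hW hw⟩
  obtain ⟨W, hWc, hWi, hWn, hWd⟩ := exists_nd_finrank hpF (by omega) (p := r) hB hx hxr hdiv hbn inv_cm hcm le_rfl
      (j := 1) (by rw [hM]; exact Nat.mul_le_mul_left _ (Nat.pos_of_ne_zero hM0))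
  rw [mul_one] at hWd
  exact ⟨W, hWn, by rw [hWd, hdc], fun w hw => by rw [← hxA]; exact hWi w hw, hne W hWc (by rw [hWd]; omega)⟩

theorem kk_le {p : ℕ} [hp : Fact p.Prime] (h5 : 5 ≤ p) (hpF : (p : F) ≠ 0)
    {A : Matrix.symplecticGroup (Fin m) F} (hA : orderOf A = p) : kk (Fintype.card F) p ≤ m := by
  obtain ⟨W, -, h, -⟩ := exists_Wc h5 hpF hA
  have h1 := Submodule.finrank_le W
  rw [Module.finrank_fintype_fun_eq_card, Fintype.card_sum, Fintype.card_fin] at h1
  omega

theorem kk_pos {p : ℕ} [hp : Fact p.Prime] (hpF : (p : F) ≠ 0) : 0 < kk (Fintype.card F) p := by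
  have hi0 : 0 < orderOf ((Fintype.card F : ℕ) : ZMod p) := ord_pos hpF
  have := two_mul_kk (Fintype.card F) p
  split_ifs at this <;> omega

/-- **Elements of order `p` are conjugate to block matrices.** -/
theorem exists_blk {p : ℕ} [hp : Fact p.Prime] (h5 : 5 ≤ p) (hpF : (p : F) ≠ 0) {k l : ℕ}
    (hk : k = kk (Fintype.card F) p) {A : symplecticGroup (Fin (k + l)) F} (hA : orderOf A = p) :
    ∃ (g : symplecticGroup (Fin (k + l)) F) (x : symplecticGroup (Fin k) F × symplecticGroup (Fin l) F),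
      g * A * g⁻¹ = blkSp k l x ∧ orderOf x.1 = p ∧ x.2 ^ p = 1 := by
  obtain ⟨W', hW'n, hW'd, hAW, hA1⟩ := exists_Wc h5 hpF hA
  obtain ⟨T, hT, hTW⟩ := exists_move (frm_symp (k + l)) (kind_symp (k + l)) (nd_symp (k + l)) (nd_W0 (k := k)) hW'n
    (by rw [hW'd, finrank_W0 (by omega), hk])
  obtain ⟨C, hC⟩ := exists_Sp_of_equiv T hT
  have hCT : ∀ v, rho (k + l) F C v = T v := by
    intro v
    have h1 := LinearMap.congr_fun hC v
    rw [Matrix.toLin'_apply] at h1
    exact h1
  have hmap : ∀ w ∈ W', rho (k + l) F C w ∈ W0 (k + l) k F := by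
    intro w hw
    rw [hCT, ← hTW]
    exact ⟨w, hw, rfl⟩
  have hmap' : ∀ w ∈ W0 (k + l) k F, (rho (k + l) F C)⁻¹ w ∈ W' := by
    intro w hw
    rw [← hTW] at hw
    obtain ⟨u, hu, rfl⟩ := hw
    have h1 : rho (k + l) F C u = T u := hCT u
    have h2 : (rho (k + l) F C)⁻¹ (T u) = u := by
      rw [← h1]
      exact (rho (k + l) F C).symm_apply_apply u
    change (rho (k + l) F C)⁻¹ (T u) ∈ W'
    rw [h2]
    exact hu
  obtain ⟨x, hx⟩ := exists_blk_of_mem (A := C * A * C⁻¹) (fun v hv => by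
    rw [map_mul, map_mul, map_inv]
    exact hmap _ (hAW _ (hmap' v hv)))
  have hxp : x ^ p = 1 := by
    apply blkSp_injective
    rw [map_pow, ← hx, conj_pow, ← hA, pow_orderOf_eq_one, map_one, mul_one, mul_inv_cancel]
  refine ⟨C, x, hx, ?_, congrArg Prod.snd hxp⟩
  refine orderOf_eq_prime (congrArg Prod.fst hxp) fun hx1 => ?_
  obtain ⟨w, hw, hwA⟩ := hA1
  apply hwA
  have h1 := hmap w hw
  rw [mem_W0_iff] at h1
  obtain ⟨⟨a, b⟩, hab⟩ := (e0 k l F).surjective (rho (k + l) F C w)
  rw [← hab, LinearEquiv.symm_apply_apply] at h1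
  obtain rfl : b = 0 := h1
  have h2 := blkSp_mulVec_fst x a
  rw [hx1, map_one, ← hx, hab, map_mul, map_mul, map_inv] at h2
  have h3 : rho (k + l) F C (rho (k + l) F A w) = rho (k + l) F C w := by
    have h4 : (rho (k + l) F C * rho (k + l) F A * (rho (k + l) F C)⁻¹) (rho (k + l) F C w) =
        rho (k + l) F C (rho (k + l) F A w) := by simp
    rw [← h4, h2, ← hab]
    rfl
  exact (rho (k + l) F C).injective h3

end Cfsg.Agent.H157.S5.Blk
end

-- part: H157/S5/PspIn
section
/-!
# S2274, `PSp_2m(q)` in cross characteristic: pairs of inner automorphisms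
-/

set_option autoImplicit false
set_option linter.unusedSectionVars false

universe u

namespace Cfsg.Agent.H157.S5

open Cfsg Cfsg.Agent.H533.T5 Cfsg.Agent.H132.S5 Cfsg.Agent.H423.PGBlk Cfsg.Agent.H157.S5.Blk
open Matrix

/-- two homomorphisms from the same group -/
theorem spair_two {P G K : Type*} [Group P] [Group G] [Group K] {p : ℕ} (hp : p.Prime) (α : P →* K) (β : P →* G)
    (hα : Function.Surjective α) (hker : β.ker ≤ α.ker) {a b : P} (h : SPair p (⊤ : Subgroup K) (α a) (α b)) :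
    SPair p (⊤ : Subgroup G) (β a) (β b) := by
  let e := QuotientGroup.quotientKerEquivRange β
  let φ : β.range →* K := (QuotientGroup.lift β.ker α hker).comp e.symm.toMonoidHom
  have hφ : ∀ z, φ ⟨β z, ⟨z, rfl⟩⟩ = α z := by
    intro z
    have h1 : e.symm ⟨β z, ⟨z, rfl⟩⟩ = (z : P ⧸ β.ker) := by
      rw [MulEquiv.symm_apply_eq]
      rfl
    change QuotientGroup.lift β.ker α hker (e.symm ⟨β z, ⟨z, rfl⟩⟩) = α z
    rw [h1]
    rfl
  refine SPair.of_section hp (M := β.range) (S := ⊤) φ (T := ⊤) ?_ (c := ⟨β a, a, rfl⟩) (d := ⟨β b, b, rfl⟩) ?_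
  · rintro t -
    obtain ⟨z, rfl⟩ := hα t
    exact ⟨⟨β z, z, rfl⟩, Subgroup.mem_top _, hφ z⟩
  · rw [hφ, hφ]
    exact h

/-- the rows of smaller groups, in the universe zero -/
theorem srow_of_below {p n : ℕ} (hlt : SBelow.{u} p n) {L : Type} [Group L] [Finite L] (hs : IsSimpleGroup L)
    (hna : ¬ IsMulCommutative L) (hn : Nat.card L < n) : SRow p L := by
  have e : L ≃* ULift.{u} L := MulEquiv.ulift.symm
  have h1 : IsSimpleGroup (ULift.{u} L) := e.symm.isSimpleGroup
  have h2 : ¬ IsMulCommutative (ULift.{u} L) := fun h => hna ⟨⟨fun a b => e.injective (by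
    rw [map_mul, map_mul]
    exact h.is_comm.comm _ _)⟩⟩
  have h3 := hlt (ULift.{u} L) h1 h2 (by rwa [← Nat.card_congr e.toEquiv])
  exact Cfsg.Agent.H897.T5Sub.SRow.congr e.symm h3

section small

variable (F : Type) [Field F]

/-- `Sp_2 = SL_2` -/
def spTwo : Matrix.symplecticGroup (Fin 1) F ≃* Matrix.SpecialLinearGroup (Fin 2) F where
  toFun A := ⟨Matrix.reindex finSumFinEquiv finSumFinEquiv (A : Matrix (Fin 1 ⊕ Fin 1) (Fin 1 ⊕ Fin 1) F), by
    rw [Matrix.det_reindex_self]
    exact (S0244.result _).1 A.2⟩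
  invFun A := ⟨Matrix.reindex finSumFinEquiv.symm finSumFinEquiv.symm (A : Matrix (Fin 2) (Fin 2) F), by
    rw [S0244.result, Matrix.det_reindex_self]
    exact A.2⟩
  left_inv A := by
    apply Subtype.ext
    ext i j
    simp
  right_inv A := by
    apply Subtype.ext
    ext i j
    simp
  map_mul' A B := by
    apply Subtype.ext
    change Matrix.reindex finSumFinEquiv finSumFinEquiv (A.1 * B.1) =
      Matrix.reindex finSumFinEquiv finSumFinEquiv A.1 * Matrix.reindex finSumFinEquiv finSumFinEquiv B.1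
    rw [Matrix.reindex_apply, Matrix.reindex_apply, Matrix.reindex_apply, Matrix.submatrix_mul_equiv]

/-- `PSp_2 = PSL_2` -/
def pspOne : PSp 1 F ≃* Matrix.ProjectiveSpecialLinearGroup (Fin 2) F :=
  LieClassical.FieldTransfer.centralQuotientCongr (spTwo F)

end small

variable {F : Type} [Field F] [Fintype F]

theorem not_comm_of_perfect {G K : Type*} [Group G] [Group K] [Nontrivial K] (hG : commutator G = ⊤) (f : G →* K)
    (hf : Function.Surjective f) : ¬ IsMulCommutative K := by
  intro h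
  obtain ⟨x, hx⟩ := exists_ne (1 : K)
  obtain ⟨g, rfl⟩ := hf x
  apply hx
  have h1 : commutator G ≤ f.ker := by
    rw [commutator_def, Subgroup.commutator_le]
    intro a _ b _
    rw [MonoidHom.mem_ker, map_commutatorElement, commutatorElement_eq_one_iff_commute]
    exact h.is_comm.comm _ _
  exact h1 (by rw [hG]; exact Subgroup.mem_top _)

/-- the simple groups `PSp_2k(q)`, `k ≥ 1` -/
theorem simple_psp {k : ℕ} (hk : 1 ≤ k) (h1 : k = 1 → 4 ≤ Fintype.card F) (h2 : k = 2 → 3 ≤ Fintype.card F) :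
    IsSimpleGroup (PSp k F) ∧ ¬ IsMulCommutative (PSp k F) := by
  rcases Nat.eq_or_lt_of_le hk with h | h
  · subst h
    have h3 := h1 rfl
    have hs := TwoFusion.SLTwoFacts.isSimpleGroup_psl (F := F) (by omega)
    have hs' : IsSimpleGroup (PSp 1 F) := (pspOne F).isSimpleGroup
    refine ⟨hs', not_comm_of_perfect (TwoFusion.SLTwoFacts.commutator_eq_top (F := F) (by omega))
      ((QuotientGroup.mk' _).comp (spTwo F).symm.toMonoidHom) ?_⟩
    exact (QuotientGroup.mk'_surjective _).comp (spTwo F).symm.surjective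
  · exact ⟨S0270.result k h h2, Cfsg.Agent.H458.RowPSp.not_comm h h2⟩

theorem card_sp_lt {k l : ℕ} (hl : 1 ≤ l) :
    Nat.card (symplecticGroup (Fin k) F) < Nat.card (symplecticGroup (Fin (k + l)) F) := by
  have h1 := Nat.card_le_card_of_injective _ (blkSp_injective (F := F) (k := k) (l := l))
  rw [Nat.card_prod] at h1
  have h2 : 2 ≤ Nat.card (symplecticGroup (Fin l) F) := by
    have h3 := S0245.result (F := F) rfl l
    have h4 : Fintype.card F ^ (l ^ 2) ∣ Nat.card (symplecticGroup (Fin l) F) := by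
      rw [h3]
      exact dvd_mul_right _ _
    have h5 := Nat.le_of_dvd Nat.card_pos h4
    have h6 : 1 < Fintype.card F := Fintype.one_lt_card
    have h7 : Fintype.card F ≤ Fintype.card F ^ (l ^ 2) := Nat.le_self_pow (by positivity) _
    omega
  have h3 : 0 < Nat.card (symplecticGroup (Fin k) F) := Nat.card_pos
  nlinarith

theorem card_psp_lt {k l : ℕ} (hk : 1 ≤ k) (hl : 1 ≤ l) : Nat.card (PSp k F) < Nat.card (PSp (k + l) F) := by
  have h1 := Subgroup.card_eq_card_quotient_mul_card_subgroup (Subgroup.center (symplecticGroup (Fin k) F))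
  have h2 := Subgroup.card_eq_card_quotient_mul_card_subgroup (Subgroup.center (symplecticGroup (Fin (k + l)) F))
  rw [S0246.result rfl _ hk] at h1
  rw [S0246.result rfl _ (by omega)] at h2
  have h3 := card_sp_lt (F := F) (k := k) hl
  rw [h1, h2] at h3
  exact Nat.lt_of_mul_lt_mul_right h3

/-- the kernels -/
theorem ker_blk {k l : ℕ} (x : symplecticGroup (Fin k) F × symplecticGroup (Fin l) F)
    (hx : blkSp k l x ∈ Subgroup.center (symplecticGroup (Fin (k + l)) F)) :
    x.1 ∈ Subgroup.center (symplecticGroup (Fin k) F) := by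
  rw [LieClassical.SympCenter.mem_center_iff] at hx ⊢
  obtain ⟨a, ha⟩ := hx
  refine ⟨a, ?_⟩
  rw [← Matrix.mulVec_injective.eq_iff]
  funext v
  have h1 := blkSp_mulVec_fst x v
  rw [ClassicalGeometry.SympAutSemi.rho_apply, ha, Matrix.smul_mulVec, Matrix.one_mulVec, ← map_smul] at h1
  have h2 := congrArg Prod.fst ((e0 k l F).injective h1)
  rw [Matrix.smul_mulVec, Matrix.one_mulVec]
  exact h2.symm

/-- pairs in symmetric groups -/
theorem spair_perm {n : ℕ} (hn : 5 ≤ n) {p : ℕ} (hp : p.Prime) (h5 : 5 ≤ p) {x y : Equiv.Perm (Fin n)}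
    (hx : orderOf x = p) (hy : orderOf y = p) : SPair p (⊤ : Subgroup (Equiv.Perm (Fin n))) x y := by
  have hA : IsSimpleGroup (alternatingGroup (Fin n)) :=
    alternatingGroup.isSimpleGroup (by rw [Nat.card_eq_fintype_card, Fintype.card_fin]; exact hn)
  have hna : ¬ IsMulCommutative (alternatingGroup (Fin n)) := by
    intro h
    rw [alternatingGroup.isMulCommutative_iff_card_le_three, Nat.card_eq_fintype_card, Fintype.card_fin] at h
    omega
  have hrow := Cfsg.Agent.H143.T5Alt.srow_alt (K := alternatingGroup (Fin n)) hn ⟨MulEquiv.refl _⟩ hp h5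
  have hmem : ∀ z : Equiv.Perm (Fin n), orderOf z = p → z ∈ alternatingGroup (Fin n) := by
    intro z hz
    rw [Equiv.Perm.mem_alternatingGroup]
    have h1 : (Equiv.Perm.sign z) ^ p = 1 := by rw [← map_pow, ← hz, pow_orderOf_eq_one, map_one]
    rcases Int.units_eq_one_or (Equiv.Perm.sign z) with h | h
    · exact h
    · rw [h, (hp.odd_of_ne_two (by omega)).neg_one_pow] at h1
      rw [h]
      exact h1
  have h1 := SRow.pair hp hna hrow (a := ⟨x, hmem x hx⟩) (b := ⟨y, hmem y hy⟩)
    (by rw [← hx]; exact (Subgroup.orderOf_mk _ _)) (by rw [← hy]; exact (Subgroup.orderOf_mk _ _))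
  exact (h1.of_injective (alternatingGroup (Fin n)).subtype Subtype.val_injective).mono le_top

/-- **pairs in the blocks** -/
theorem exists_alpha {p n : ℕ} (hp : p.Prime) (h5 : 5 ≤ p) (hlt : SBelow.{u} p n) {k : ℕ}
    (hk : 1 ≤ k) (hn : Nat.card (PSp k F) < n) (hex : ∃ x : symplecticGroup (Fin k) F, orderOf x = p) :
    ∃ (K : Type) (_ : Group K) (α : symplecticGroup (Fin k) F →* K), Function.Surjective α ∧
      (∀ z ∈ Subgroup.center (symplecticGroup (Fin k) F), α z = 1) ∧
      ∀ x y : symplecticGroup (Fin k) F, orderOf x = p → orderOf y = p → SPair p (⊤ : Subgroup K) (α x) (α y) := by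
  by_cases h22 : k = 2 ∧ Fintype.card F < 3
  · obtain ⟨rfl, h3⟩ := h22
    have h2 : Fintype.card F = 2 := by
      have := Fintype.one_lt_card (α := F)
      omega
    obtain ⟨e⟩ := LieClassical.SpFourTwo.nonempty_equiv_perm h2
    refine ⟨Equiv.Perm (Fin 6), inferInstance, e.toMonoidHom, e.surjective, ?_, ?_⟩
    · intro z hz
      have h4 := S0246.result h2 2 (by omega)
      have h5 : Subgroup.center (symplecticGroup (Fin 2) F) = ⊥ := Subgroup.card_eq_one.1 (by rw [h4]; rfl)
      rw [h5, Subgroup.mem_bot] at hz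
      rw [hz, map_one]
    · intro x y hx hy
      refine spair_perm (by omega) hp h5 ?_ ?_
      · rw [← hx]
        exact orderOf_injective _ e.injective x
      · rw [← hy]
        exact orderOf_injective _ e.injective y
  · have hk1 : k = 1 → 4 ≤ Fintype.card F := by
      rintro rfl
      obtain ⟨x, hx⟩ := hex
      have h1 : p ∣ Nat.card (symplecticGroup (Fin 1) F) := hx ▸ orderOf_dvd_natCard x
      rw [S0245.result rfl] at h1
      by_contra hcon
      have h2 : Fintype.card F = 2 ∨ Fintype.card F = 3 := by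
        have := Fintype.one_lt_card (α := F)
        omega
      have h3 : p ∣ 24 := by
        rcases h2 with h2 | h2
        · rw [h2] at h1
          simp only [_root_.one_pow, _root_.pow_one, _root_.Finset.range_one, _root_.Finset.prod_singleton, _root_.zero_add, _root_.mul_one, _root_.Nat.reducePow, _root_.Nat.add_one_sub_one, _root_.Nat.reduceMul] at h1
          exact h1.trans (by norm_num)
        · rw [h2] at h1
          simpa only [_root_.one_pow, _root_.pow_one, _root_.Finset.range_one, _root_.Finset.prod_singleton, _root_.zero_add, _root_.mul_one, _root_.Nat.reducePow, _root_.Nat.add_one_sub_one, _root_.Nat.reduceMul] using h1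
      have h4 : p ∣ 2 ^ 3 * 3 := h3
      rcases hp.dvd_mul.1 h4 with h | h
      · have := Nat.le_of_dvd (by norm_num) (hp.dvd_of_dvd_pow h)
        omega
      · have := Nat.le_of_dvd (by norm_num) h
        omega
    obtain ⟨hs, hna⟩ := simple_psp (F := F) hk hk1 (by intro h; by_contra hc; exact h22 ⟨h, by omega⟩)
    have hrow := srow_of_below hlt hs hna hn
    have hor : ∀ x : symplecticGroup (Fin k) F, orderOf x = p → orderOf (QuotientGroup.mk x : PSp k F) = p :=
      fun x hx => Cfsg.Agent.H458.SpOp.orderOf_pr hk hp (by omega) hx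
    refine ⟨PSp k F, inferInstance, QuotientGroup.mk' _, QuotientGroup.mk'_surjective _, ?_, ?_⟩
    · intro z hz
      exact (QuotientGroup.eq_one_iff z).2 hz
    · intro x y hx hy
      exact SRow.pair hp hna hrow (hor x hx) (hor y hy)

/-- the blocks in `PSp` -/
def blkP (k l : ℕ) : symplecticGroup (Fin k) F × symplecticGroup (Fin l) F →* PSp (k + l) F :=
  (QuotientGroup.mk' _).comp (blkSp k l)

theorem blkP_apply {k l : ℕ} (x : symplecticGroup (Fin k) F × symplecticGroup (Fin l) F) :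
    blkP k l x = QuotientGroup.mk (blkSp k l x) := rfl

theorem ker_blkP {k l : ℕ} (z : symplecticGroup (Fin k) F × symplecticGroup (Fin l) F)
    (hz : z ∈ (blkP k l).ker) : z.1 ∈ Subgroup.center (symplecticGroup (Fin k) F) := by
  rw [MonoidHom.mem_ker, blkP_apply, QuotientGroup.eq_one_iff] at hz
  exact ker_blk z hz

theorem mk_conj {m : ℕ} (g A : symplecticGroup (Fin m) F) :
    (QuotientGroup.mk (g * A * g⁻¹) : PSp m F) =
      QuotientGroup.mk g * QuotientGroup.mk A * (QuotientGroup.mk g)⁻¹ := rfl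

/-- **The inner pairs, blocks smaller than the space.** -/
theorem spair_blk {p : ℕ} [hp : Fact p.Prime] (h5 : 5 ≤ p) (hpF : (p : F) ≠ 0) {k l : ℕ}
    (hk : k = kk (Fintype.card F) p) (hl : 1 ≤ l) (hlt : SBelow.{u} p (Nat.card (PSp (k + l) F)))
    {A B : symplecticGroup (Fin (k + l)) F} (hA : orderOf A = p) (hB : orderOf B = p) :
    SPair p (⊤ : Subgroup (PSp (k + l) F)) (QuotientGroup.mk A) (QuotientGroup.mk B) := by
  have hk1 : 1 ≤ k := hk ▸ kk_pos hpF
  obtain ⟨g, x, hx, hx1, -⟩ := exists_blk h5 hpF hk hA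
  obtain ⟨g', y, hy, hy1, -⟩ := exists_blk h5 hpF hk hB
  obtain ⟨K, _, α, hα, hαz, hαp⟩ := exists_alpha hp.out h5 hlt hk1 (card_psp_lt hk1 hl) ⟨_, hx1⟩
  have h1 := spair_two hp.out (α.comp (MonoidHom.fst _ (symplecticGroup (Fin l) F))) (blkP k l)
    (hα.comp Prod.fst_surjective) (fun z hz => hαz _ (ker_blkP z hz)) (a := x) (b := y) (hαp _ _ hx1 hy1)
  rw [blkP_apply, blkP_apply, ← hx, ← hy, mk_conj, mk_conj] at h1
  exact (h1.conj_left (Subgroup.mem_top _)).conj_right (Subgroup.mem_top _)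

/-- cyclic Sylow subgroups -/
theorem cyclic_sylow_sp {p : ℕ} [hp : Fact p.Prime] (h5 : 5 ≤ p) (hpF : (p : F) ≠ 0) {m : ℕ}
    (hm : m = kk (Fintype.card F) p) (P : Sylow p (symplecticGroup (Fin m) F)) :
    IsCyclic ↥(P : Subgroup (symplecticGroup (Fin m) F)) := by
  have hq := Cfsg.Agent.H862.T5.SpRow.not_dvd_card hp.out hpF
  have h1 := Cfsg.Agent.H862.T5.SpRow.cc_lt h5 hq
  rw [← two_mul_kk, ← hm] at h1
  obtain ⟨e⟩ := S2381.result (F := F) rfl m p (by omega) (by omega) hq P
  have hm0 : 0 < m := hm ▸ kk_pos hpF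
  have hdvd : ∀ i, orderOf ((Fintype.card F : ℕ) : ZMod p) ∣ 2 * i ↔ m ∣ i := by
    intro i
    have h2 := two_mul_kk (Fintype.card F) p
    rw [← hm] at h2
    split_ifs at h2 with h
    · rw [← h2]
      exact Nat.mul_dvd_mul_iff_left (by norm_num)
    · have h3 : orderOf ((Fintype.card F : ℕ) : ZMod p) = m := by omega
      rw [h3] at h ⊢
      have h4 : Nat.Coprime m 2 := (Nat.coprime_two_right.2 (Nat.not_even_iff_odd.1 h))
      exact h4.dvd_mul_left
  have hc : ((Finset.Icc 1 m).filter (fun i => orderOf ((Fintype.card F : ℕ) : ZMod p) ∣ 2 * i)) = {m} := by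
    ext i
    rw [Finset.mem_filter, Finset.mem_Icc, Finset.mem_singleton, hdvd]
    constructor
    · rintro ⟨⟨h2, h3⟩, h4⟩
      have := Nat.le_of_dvd (by omega) h4
      omega
    · rintro rfl
      exact ⟨⟨hm0, le_rfl⟩, dvd_rfl⟩
  rw [hc, Finset.card_singleton] at e
  have e2 := e.trans (MulEquiv.funUnique (Fin 1) (Multiplicative (ZMod (p ^ padicValNat p
    ((Polynomial.cyclotomic (orderOf ((Fintype.card F : ℕ) : ZMod p)) ℤ).eval
      ((Fintype.card F : ℕ) : ℤ)).natAbs))))
  exact e2.isCyclic.2 inferInstance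

/-- **The inner pairs.** -/
theorem spair_inner {S : Type u} [Group S] [Finite S] {p : ℕ} (hp : p.Prime) (h5 : 5 ≤ p) (hpF : (p : F) ≠ 0)
    (B : SBox.{u} p) (hlt : SBelow.{u} p (Nat.card S)) {m : ℕ} (hm : 2 ≤ m) (h22 : m = 2 → 3 ≤ Fintype.card F)
    (e : S ≃* PSp m F) {x y : S} (hx : orderOf x = p) (hy : orderOf y = p) : SPair p (⊤ : Subgroup S) x y := by
  have hpf : Fact p.Prime := ⟨hp⟩
  have hsimple : IsSimpleGroup (PSp m F) := S0270.result m hm h22
  have hna : ¬ IsMulCommutative (PSp m F) := Cfsg.Agent.H458.RowPSp.not_comm hm h22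
  have hs : IsSimpleGroup S := e.isSimpleGroup
  have hnaS : ¬ IsMulCommutative S := fun h => hna ⟨⟨fun a b => e.symm.injective (by
    rw [map_mul, map_mul]
    exact h.is_comm.comm _ _)⟩⟩
  have hex : orderOf (e x) = p := by
    rw [← hx]
    exact orderOf_injective e.toMonoidHom e.injective x
  have hey : orderOf (e y) = p := by
    rw [← hy]
    exact orderOf_injective e.toMonoidHom e.injective y
  obtain ⟨X, hX, hX'⟩ := Cfsg.Agent.H458.SpOp.exists_lift (by omega) hp (by omega) (e x) hex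
  obtain ⟨Y, hY, hY'⟩ := Cfsg.Agent.H458.SpOp.exists_lift (by omega) hp (by omega) (e y) hey
  rcases (kk_le h5 hpF hX').lt_or_eq with h | h
  · obtain ⟨l, rfl⟩ := Nat.exists_eq_add_of_le h.le
    have h1 := spair_blk (k := kk (Fintype.card F) p) (l := l) h5 hpF rfl (by omega)
      (by rwa [← Nat.card_congr e.toEquiv]) hX' hY'
    have h2 : SPair p (⊤ : Subgroup (PSp (kk (Fintype.card F) p + l) F)) (e x) (e y) := by
      rw [← hX, ← hY]
      exact h1
    have h3 := h2.of_injective e.symm.toMonoidHom e.symm.injective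
    have e1 : e.symm.toMonoidHom (e x) = x := e.symm_apply_apply x
    have e2 : e.symm.toMonoidHom (e y) = y := e.symm_apply_apply y
    rw [e1, e2] at h3
    exact h3.mono le_top
  · obtain ⟨R⟩ := (inferInstance : Nonempty (Sylow p (symplecticGroup (Fin m) F)))
    obtain ⟨P, hP⟩ := Cfsg.Agent.H458.RowPSp.exists_cyclic_of R (cyclic_sylow_sp h5 hpF h.symm R)
    let Q : Sylow p S := P.mapSurjective (f := e.symm.toMonoidHom) e.symm.surjective
    have hQ : ((Q : Sylow p S) : Subgroup S) = (P : Subgroup (PSp m F)).map e.symm.toMonoidHom := rfl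
    refine spair_of_cyclic B.aa B.rs hnaS Q ?_ hx hy
    rw [hQ]
    exact isCyclic_of_surjective (e.symm.toMonoidHom.subgroupMap (P : Subgroup (PSp m F)))
      (e.symm.toMonoidHom.subgroupMap_surjective _)

end Cfsg.Agent.H157.S5
end

private theorem dce_e92163f7c122 : _root_.True := by
  try have : _root_.True := by simp only [_root_.LinearEquiv.sumArrowLequivProdArrow.eq_1]
  try have : _root_.True := by simp only [_root_.Cfsg.Agent.H157.S5.Blk.e0.eq_1]
  try have : _root_.True := by simp only [_root_.LinearEquiv.funCongrLeft.eq_1]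
  exact _root_.True.intro
end
end
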